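import Cfsg.Agent.H506.DPL.Defs
import Cfsg.Agent.H199.DPL.Frame
import Cfsg.Agent.H380.RV.Tr
import Cfsg.Agent.S0205

/-!
# S4247, row `[L]`: `StFr`, `StDec` (helper199)
-/

set_option autoImplicit false

namespace Cfsg.Agent.H199.DPL

open Matrix Module Cfsg Cfsg.Agent.H167.OP Cfsg.Agent.H170.HL Cfsg.Agent.H556.HallRowAbs Cfsg.Agent.H553.RV
open Cfsg.Agent.H817.DPi Cfsg.Agent.H506.DPL

section
variable {F : Type} [Field F] {n : ℕ}

/-- the primes of `π` are not zero in the field -/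
theorem cast_ne {p : ℕ} [CharP F p] (hp : p.Prime) {r : ℕ} (hr : r.Prime) (h : r ≠ p) : (r : F) ≠ 0 := by
  intro h0
  rw [CharP.cast_eq_zero_iff F p] at h0
  exact h ((Nat.prime_dvd_prime_iff_eq hp hr).mp h0).symm

/-- a Hall `π`-subgroup has odd order and is solvable -/
theorem hc_of_hall [Fintype F] {π : Set ℕ} {p : ℕ} [CharP F p] (hp : p.Prime) (hpπ : p ∉ π) (h2 : 2 ∉ π)
    {P' : Subgroup (Matrix (Fin n) (Fin n) F)ˣ} (hP : IsPiHall π P') : HC F P' := by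
  have hodd : Odd (Nat.card P') := Cfsg.Agent.H380.RV.odd_of_piN h2 hP.1
  refine ⟨S0205.result hodd, fun r hr hd => ⟨?_, cast_ne hp hr ?_⟩⟩
  · rintro rfl
    exact h2 (hP.1 2 hr hd)
  · rintro rfl
    exact hpπ (hP.1 r hr hd)

theorem mem_V0 {m : ℕ} {f : Fin m → (Matrix (Fin n) (Fin n) F)ˣ} {v : Fin n → F} :
    v ∈ V0 f ↔ ∀ i, rg F n (f i) v = v := by
  rw [V0, Submodule.mem_iInf]
  refine forall_congr' fun i => ?_
  rw [LinearMap.mem_ker, LinearMap.sub_apply, Module.End.one_apply, sub_eq_zero]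

/-- a frame is not empty -/
theorem frame_pos [Fintype F] {t : ℕ} (ht : t.Prime) (hodd : Odd t) (htF : (t : F) ≠ 0)
    (htY : t ∣ Nat.card (Matrix (Fin n) (Fin n) F)ˣ) {P' : Subgroup (Matrix (Fin n) (Fin n) F)ˣ} {m : ℕ}
    {f : Fin m → (Matrix (Fin n) (Fin n) F)ˣ} (hf : Fm (rg F n) (eo F) P' t m f) : 0 < m := by
  by_contra h0
  have h1 := hf.max ⊤ (fun i => absurd i.2 (by omega))
  obtain ⟨x, hx⟩ := @exists_prime_orderOf_dvd_card' _ _ _ t (Fact.mk ht) htY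
  have h2 := le_rk_of_ne (Cfsg.Agent.H380.RV.linDat_GL n).row ht hodd htF (y := x)
    (by rw [← hx]; exact pow_orderOf_eq_one x) (by
      rintro rfl
      rw [orderOf_one] at hx
      exact ht.one_lt.ne hx)
  have h3 := Submodule.finrank_mono (le_top : Rg (rg F n) x ≤ ⊤)
  rw [finrank_Rg] at h3
  exact absurd (h2.trans h3) (not_le.mpr h1)

end

/-- **L2a** -/
theorem st_fr : StFr := by
  intro π p F _ _ _ n P' hp hpπ h2 hn hP hnil
  have hc : HC F P' := hc_of_hall hp hpπ h2 hP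
  have D := Cfsg.Agent.H380.RV.linDat_GL (F := F) n
  obtain ⟨t, ht, htP, hgen, hex⟩ := exists_gen' D hc (fun r hr hd => hP.2 r hr (hP.1 r hr hd)) hnil
  obtain ⟨ht2, htF⟩ := hc.ok t ht htP
  have hodd := ht.odd_of_ne_two ht2
  have htY := htP.trans (Subgroup.card_subgroup_dvd_card P')
  obtain ⟨m, f, hf⟩ := exists_frame D ht hodd htF htY (hP.2 t ht (hP.1 t ht htP))
  refine ⟨t, m, f, ht, hP.1 t ht htP, hgen, ?_, frame_pos ht hodd htF htY hf, hf,
    fun g hg i => perm_of_frame D hc ht hodd htF hgen hf hg i, hc⟩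
  rintro ⟨rfl, rfl⟩
  exact hex ⟨by rw [finrank_fin_fun], rfl⟩

/-- **L2b** -/
theorem st_dec : StDec := by
  intro π p F _ _ _ n P' t m f hp hpπ hf
  have D := Cfsg.Agent.H380.RV.linDat_GL (F := F) n
  have hg := hf.gen
  have htF : (t : F) ≠ 0 := cast_ne hp hf.prime (by rintro rfl; exact hpπ hf.mem)
  have hodd : Odd t := by
    refine hf.prime.odd_of_ne_two ?_
    rintro rfl
    have h1 : 0 < eo F 2 := D.row.epos 2 hf.prime htF
    omega
  refine ⟨?_, hf.fm.max _ fun i v hv => mem_V0.mp hv i, fun g hg v hv => ?_, fun v => ?_, fun i w hw h => ?_⟩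
  · rw [finrank_dec htF hf.fm (V0 f) fun v => mem_V0, finrank_fin_fun]
  · exact mem_V0.mpr (fix_of_mem D hf.hc hf.prime hodd htF hf.gen hf.fm hg (mem_V0.mp hv))
  · obtain ⟨v0, hv0, w, hw, h⟩ := dec htF hf.fm v
    exact ⟨v0, mem_V0.mpr hv0, w, hw, h⟩
  · exact eq_zero_of_fix htF (hf.fm.isZ i).1 hw h

end Cfsg.Agent.H199.DPL
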